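import Mathlib.LinearAlgebra.Dimension.Finite
import Mathlib.LinearAlgebra.FiniteDimensional.Lemmas
import Mathlib.LinearAlgebra.Prod
import Mathlib.GroupTheory.Perm.Basic
import Mathlib.Algebra.Group.Subgroup.Lattice
import Mathlib.Data.Rat.Defs
import Mathlib.LinearAlgebra.Pi

/-!
Scott's inequality for a triple of permutations with product one, on the permutation module.
-/

set_option autoImplicit false

namespace Cfsg.Agent.PermRep

open Module LinearMap

variable {α : Type*} [Fintype α]

/-- The permutation operator on functions. -/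
noncomputable def op (σ : Equiv.Perm α) : Module.End ℚ (α → ℚ) where
  toFun v := v ∘ ⇑σ.symm
  map_add' _ _ := rfl
  map_smul' _ _ := rfl

theorem op_apply (σ : Equiv.Perm α) (v : α → ℚ) (a : α) : op σ v a = v (σ.symm a) := rfl

theorem op_mul (σ τ : Equiv.Perm α) (v : α → ℚ) : op (σ * τ) v = op σ (op τ v) := rfl

theorem op_one (v : α → ℚ) : op (1 : Equiv.Perm α) v = v := rfl

/-- The moved space. -/
noncomputable def mv (σ : Equiv.Perm α) : Submodule ℚ (α → ℚ) := range (op σ - 1)

/-- An invariant labelling with `c` classes bounds the moved space. -/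
theorem finrank_mv_le {σ : Equiv.Perm α} {c : ℕ} (f : α → Fin c) (hf : Function.Surjective f)
    (hσ : ∀ a, f (σ a) = f a) : finrank ℚ (mv σ) + c ≤ Fintype.card α := by
  let L : (Fin c → ℚ) →ₗ[ℚ] (α → ℚ) := LinearMap.funLeft ℚ ℚ f
  have hL : Function.Injective L := LinearMap.funLeft_injective_of_surjective _ _ f hf
  have hle : range L ≤ ker (op σ - 1) := by
    rintro _ ⟨w, rfl⟩
    rw [LinearMap.mem_ker, LinearMap.sub_apply, Module.End.one_apply, sub_eq_zero]
    funext a
    show w (f (σ.symm a)) = w (f a)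
    rw [← hσ (σ.symm a), Equiv.apply_symm_apply]
  have h1 := Submodule.finrank_mono hle
  rw [LinearMap.finrank_range_of_inj hL, Module.finrank_fin_fun] at h1
  have h2 : finrank ℚ (mv σ) + finrank ℚ (ker (op σ - 1)) = Fintype.card α :=
    (LinearMap.finrank_range_add_finrank_ker _).trans (Module.finrank_fintype_fun_eq_card ℚ)
  omega

theorem eq_of_mem_closure {S : Set (Equiv.Perm α)} {v : α → ℚ} (h : ∀ σ ∈ S, op σ v = v) {g : Equiv.Perm α}
    (hg : g ∈ Subgroup.closure S) (a : α) : v (g a) = v a := by
  induction hg using Subgroup.closure_induction generalizing a with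
  | mem σ hσ =>
    have := congrFun (h σ hσ) (σ a)
    rw [op_apply, Equiv.symm_apply_apply] at this
    exact this.symm
  | one => rfl
  | mul σ τ _ _ iσ iτ => exact (iσ (τ a)).trans (iτ a)
  | inv σ _ iσ =>
    have := iσ (σ⁻¹ a)
    rw [show σ (σ⁻¹ a) = a from σ.apply_symm_apply a] at this
    exact this.symm

/-- Scott's inequality, for a group with two orbits one of which is a point. -/
theorem scott_two [DecidableEq α] {x y z : Equiv.Perm α} (hxyz : x * y * z = 1) {o b : α}
    (horb : ∀ q, q ≠ o → ∃ g ∈ Subgroup.closure ({x, y} : Set (Equiv.Perm α)), g b = q) :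
    2 * Fintype.card α ≤ finrank ℚ (mv x) + finrank ℚ (mv y) + finrank ℚ (mv z) + 4 := by
  set n := Fintype.card α
  -- fixed vectors
  have hfix : ∀ v : α → ℚ, op x v = v → op y v = v → ∀ q, q ≠ o → v q = v b := by
    intro v h1 h2 q hq
    obtain ⟨g, hg, rfl⟩ := horb q hq
    exact eq_of_mem_closure (S := {x, y}) (by rintro σ (rfl | rfl) <;> assumption) hg b
  -- the sum map
  let β : (mv x × mv y × mv z) →ₗ[ℚ] (α → ℚ) :=
    LinearMap.coprod (mv x).subtype (LinearMap.coprod (mv y).subtype (mv z).subtype)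
  let a1 : (α → ℚ) →ₗ[ℚ] mv x := ((op x - 1) ∘ₗ (op y * op z)).codRestrict (mv x) fun v => ⟨_, rfl⟩
  let a2 : (α → ℚ) →ₗ[ℚ] mv y := ((op y - 1) ∘ₗ op z).codRestrict (mv y) fun v => ⟨_, rfl⟩
  let a3 : (α → ℚ) →ₗ[ℚ] mv z := (op z - 1).codRestrict (mv z) fun v => ⟨_, rfl⟩
  let δ := a1.prod (a2.prod a3)
  have hβδ : range δ ≤ ker β := by
    rintro _ ⟨v, rfl⟩
    show (op x (op y (op z v)) - op y (op z v)) + ((op y (op z v) - op z v) + (op z v - v)) = 0
    have : op x (op y (op z v)) = v := by rw [← op_mul, ← op_mul, hxyz, op_one]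
    rw [this]
    abel
  have hkerδ : finrank ℚ (ker δ) ≤ 2 := by
    let r : ker δ →ₗ[ℚ] (ℚ × ℚ) :=
      ((LinearMap.proj b).comp (ker δ).subtype).prod ((LinearMap.proj o).comp (ker δ).subtype)
    have hr : Function.Injective r := by
      rw [← LinearMap.ker_eq_bot, Submodule.eq_bot_iff]
      rintro ⟨v, hv⟩ h0
      have h1 : (δ v).1.1 = 0 := by rw [show δ v = 0 from hv]; rfl
      have h2 : (δ v).2.1.1 = 0 := by rw [show δ v = 0 from hv]; rfl
      have h3 : (δ v).2.2.1 = 0 := by rw [show δ v = 0 from hv]; rfl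
      have e3 : op z v = v := sub_eq_zero.1 h3
      have e2 : op y (op z v) = op z v := sub_eq_zero.1 h2
      have e1 : op x (op y (op z v)) = op y (op z v) := sub_eq_zero.1 h1
      rw [e3] at e1 e2
      rw [e2] at e1
      have h0' : v b = 0 ∧ v o = 0 := Prod.mk.inj (h0 : r ⟨v, hv⟩ = ((0 : ℚ), (0 : ℚ)))
      refine Subtype.ext (funext fun q => ?_)
      by_cases hq : q = o
      · rw [hq]; exact h0'.2
      · show v q = 0
        rw [hfix v e1 e2 q hq]; exact h0'.1
    refine (LinearMap.finrank_le_finrank_of_injective hr).trans ?_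
    simp
  have hrange : n ≤ finrank ℚ (range β) + 2 := by
    let e : α → (α → ℚ) := fun q => Pi.single q 1
    let U : Submodule ℚ (α → ℚ) := range β
    have hU : ∀ σ ∈ ({x, y} : Set (Equiv.Perm α)), ∀ v, op σ v - v ∈ U := by
      rintro σ (rfl | rfl) v
      · exact ⟨(⟨_, v, rfl⟩, 0, 0), by simp [β]⟩
      · exact ⟨(0, ⟨_, v, rfl⟩, 0), by simp [β]⟩
    have hg : ∀ g ∈ Subgroup.closure ({x, y} : Set (Equiv.Perm α)), ∀ v, op g v - v ∈ U := by
      intro g hg
      induction hg using Subgroup.closure_induction with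
      | mem σ hσ => exact hU σ hσ
      | one => intro v; rw [op_one, sub_self]; exact zero_mem _
      | mul σ τ _ _ iσ iτ =>
        intro v
        have := add_mem (iσ (op τ v)) (iτ v)
        rwa [sub_add_sub_cancel, ← op_mul] at this
      | inv σ _ iσ =>
        intro v
        have := neg_mem (iσ (op σ⁻¹ v))
        rwa [← op_mul, mul_inv_cancel, op_one, neg_sub] at this
    have htop : U ⊔ Submodule.span ℚ ({e b, e o} : Set (α → ℚ)) = ⊤ := by
      refine eq_top_iff.2 fun v _ => ?_
      rw [show v = ∑ q, v q • e q by funext a; simp [e, Pi.single_apply]]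
      refine sum_mem fun q _ => Submodule.smul_mem _ _ ?_
      by_cases hq : q = o
      · subst hq; exact Submodule.mem_sup_right (Submodule.subset_span (by simp))
      obtain ⟨g, hgc, rfl⟩ := horb q hq
      have : e (g b) = (op g (e b) - e b) + e b := by
        rw [sub_add_cancel]
        funext a
        simp [e, op_apply, Pi.single_apply, Equiv.symm_apply_eq]
      rw [this]
      exact add_mem (Submodule.mem_sup_left (hg g hgc _)) (Submodule.mem_sup_right (Submodule.subset_span (by simp)))
    have h1 := Submodule.finrank_add_le_finrank_add_finrank U (Submodule.span ℚ ({e b, e o} : Set (α → ℚ)))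
    rw [htop, finrank_top, Module.finrank_fintype_fun_eq_card] at h1
    have h2 : finrank ℚ (Submodule.span ℚ ({e b, e o} : Set (α → ℚ))) ≤ 2 := by
      classical
      have h3 := finrank_span_finset_le_card (R := ℚ) ({e b, e o} : Finset (α → ℚ))
      rw [Set.finrank, Finset.coe_pair] at h3
      exact h3.trans Finset.card_le_two
    show n ≤ finrank ℚ U + 2
    omega
  have h4 := LinearMap.finrank_range_add_finrank_ker β
  have h5 := LinearMap.finrank_range_add_finrank_ker δ
  have h6 := Submodule.finrank_mono hβδ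
  rw [Module.finrank_fintype_fun_eq_card] at h5
  rw [Module.finrank_prod, Module.finrank_prod] at h4
  omega

end Cfsg.Agent.PermRep
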